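-- Team project LSF (S5286, helper67), package [FREE] (helper10):
-- the kernel of the projection of `GG F` to `Perm S` is a free normal subgroup of index
-- dividing `|S|!` (Nielsen–Schreier).
import Mathlib
import Cfsg.Agent.Lib.Helper67.LSF.Defs

set_option autoImplicit false

namespace Cfsg.Agent.Lib.Helper10.LSF

open Cfsg Cfsg.Agent.Lib.Helper67.LSF

universe u

/-- [FREE] -/
theorem pkgFree : PkgFree.{u} := by
  intro Ω _ S _ F
  classical
  let ρ : GG F →* Equiv.Perm S := (SemidirectProduct.rightHom).comp (GG F).subtype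
  have hr : ∀ n : ρ.ker, ((n.1 : GG F) : Ghat F).right = 1 := fun n => MonoidHom.mem_ker.mp n.2
  let ψ : ρ.ker →* FreeGroup (X F) :=
    { toFun := fun n => ((n.1 : GG F) : Ghat F).left
      map_one' := rfl
      map_mul' := fun a b => by
        show (((a.1 : GG F) : Ghat F) * ((b.1 : GG F) : Ghat F)).left = _
        rw [SemidirectProduct.mul_left, hr a, map_one]
        rfl }
  have hinj : Function.Injective ψ := by
    intro a b hab
    apply Subtype.ext
    apply Subtype.ext
    exact SemidirectProduct.ext hab ((hr a).trans (hr b).symm)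
  refine ⟨ρ.ker, inferInstance, ?_, ?_⟩
  · exact IsFreeGroup.ofMulEquiv (MonoidHom.ofInjective hinj).symm
  · rw [Subgroup.index_ker]
    have h1 : Nat.card ρ.range ∣ Nat.card (Equiv.Perm S) := Subgroup.card_subgroup_dvd_card _
    rwa [Nat.card_perm] at h1

end Cfsg.Agent.Lib.Helper10.LSF
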